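import Groth.Agent.AgVanish.Invariant
import Groth.Agent.AVDeg.CharRoots
import Groth.Agent.AVDeg.Quad
import Groth.Agent.AVDeg.Inter
import Groth.Agent.AVDeg.Pow
import Groth.Agent.AVDeg.SectionPos

/-!
Translation invariant classes are numerically trivial against ample classes.
-/

set_option autoImplicit false
set_option backward.isDefEq.respectTransparency false
set_option linter.style.haveILetI false
set_option linter.unusedSectionVars false
set_option maxHeartbeats 1000000
set_option synthInstance.maxHeartbeats 200000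

universe u

open CategoryTheory CategoryTheory.Limits MonoidalCategory CartesianMonoidalCategory MonObj GrpObj AlgebraicGeometry
open TopologicalSpace

noncomputable section

namespace Groth.Agent.AgPos

open W7Cube (pull pc pull_pc pull_pull pc_id pc_one)
open AVDeg (top)

attribute [local instance] W7Cube.law
attribute [local instance] AVDeg.overInst

variable {k : Type u} [Field k] {A : Over (Spec (CommRingCat.of k))} [GrpObj A] [IsProper A.hom]
  [GeometricallyIntegral A.hom]

/-- Translation by a point. -/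
abbrev trans (x : 𝟙_ (Over (Spec (CommRingCat.of k))) ⟶ A) : A ⟶ A := 𝟙 A * (toUnit A ≫ x)

/-- The class moved by a translation, divided by the class. -/
def phiPt (c : PicLoc.PicSet A.left) (x : 𝟙_ (Over (Spec (CommRingCat.of k))) ⟶ A) : PicLoc.PicSet A.left :=
  pc c (trans x) * c⁻¹

/-- Translation invariance. -/
def Inv (c : PicLoc.PicSet A.left) : Prop := ∀ x, pc c (trans x) = c

theorem inv_iff (c : PicLoc.PicSet A.left) : Inv c ↔ ∀ x, phiPt c x = 1 :=
  forall_congr' fun _ => mul_inv_eq_one.symm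

theorem pc_mulClass (c d : PicLoc.PicSet A.left) {V : Over (Spec (CommRingCat.of k))} (f : V ⟶ A) :
    pc (c * d) f = pc c f * pc d f := map_mul _ _ _

theorem phiPt_mulClass (c d : PicLoc.PicSet A.left) (x : 𝟙_ (Over (Spec (CommRingCat.of k))) ⟶ A) :
    phiPt (c * d) x = phiPt c x * phiPt d x := by
  rw [phiPt, phiPt, phiPt, pc_mulClass, _root_.mul_inv, _root_.mul_mul_mul_comm]

/-- The map `c ↦ phiPt c x` as a homomorphism. -/
def phiHom (x : 𝟙_ (Over (Spec (CommRingCat.of k))) ⟶ A) : PicLoc.PicSet A.left →* PicLoc.PicSet A.left :=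
  MonoidHom.mk' (fun c => phiPt c x) (fun c d => phiPt_mulClass c d x)

theorem phiPt_pc (c : PicLoc.PicSet A.left) (β : A ⟶ A) [IsMonHom β]
    (x : 𝟙_ (Over (Spec (CommRingCat.of k))) ⟶ A) :
    phiPt (pc c β) x = pc (phiPt c (x ≫ β)) β := by
  have e : trans x ≫ β = β ≫ trans (x ≫ β) := by
    simp only [trans, MonObj.mul_comp, MonObj.comp_mul, Category.id_comp, Category.comp_id, Category.assoc]
    rw [← Category.assoc β (toUnit A), toUnit_unique (β ≫ toUnit A) (toUnit A)]
  have h1 : pc (pc c β) (trans x) = pc (pc c (trans (x ≫ β))) β := by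
    show pull _ (pc c β) = pull _ (pc c (trans (x ≫ β)))
    rw [pull_pc, pull_pc, e]
  rw [phiPt, phiPt, h1]
  show _ = pc (_ * c⁻¹) β
  rw [pc_mulClass, show pc c⁻¹ β = (pc c β)⁻¹ from map_inv (pull β.left) c]

variable [IsAlgClosed k]

theorem phiPt_mulPoint (c : PicLoc.PicSet A.left) (x y : 𝟙_ (Over (Spec (CommRingCat.of k))) ⟶ A) :
    phiPt c (x * y) = phiPt c x * phiPt c y := AgVanish.translate_div_mul c x y

theorem phiPt_invPoint (c : PicLoc.PicSet A.left) (x : 𝟙_ (Over (Spec (CommRingCat.of k))) ⟶ A) :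
    phiPt c x⁻¹ = (phiPt c x)⁻¹ := by
  have h := phiPt_mulPoint c x⁻¹ x
  rw [inv_mul_cancel] at h
  refine eq_inv_of_mul_eq_one_left (h.symm.trans ?_)
  rw [phiPt, trans, MonObj.comp_one, _root_.mul_one, pc_id, mul_inv_cancel]

theorem inv_phiPt (c : PicLoc.PicSet A.left) (x : 𝟙_ (Over (Spec (CommRingCat.of k))) ⟶ A) : Inv (phiPt c x) := by
  intro b
  show pc (pc c (trans x) * c⁻¹) (trans b) = _
  rw [pc_mulClass, show pc c⁻¹ (trans b) = (pc c (trans b))⁻¹ from map_inv (pull (trans b).left) c]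
  have h := AVAmple.translate_mul c x b
  change pc (pc c (trans x)) (trans b) = pc c (trans (b * x)) at h
  have e : ∀ y, pc c (trans y) = phiPt c y * c := fun y => (inv_mul_cancel_right _ c).symm
  rw [h, e, e b, phiPt_mulPoint]
  show phiPt c b * phiPt c x * c * (phiPt c b * c)⁻¹ = phiPt c x
  rw [_root_.mul_comm (phiPt c b) (phiPt c x), _root_.mul_assoc (phiPt c x), mul_inv_cancel_right]

theorem pc_add_of_inv {c : PicLoc.PicSet A.left} (hc : Inv c) {V : Over (Spec (CommRingCat.of k))} (f g : V ⟶ A) :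
    pc c (f * g) = pc c f * pc c g := by
  haveI : Subsingleton (Spec (CommRingCat.of k)) := inferInstanceAs (Subsingleton (PrimeSpectrum k))
  haveI : IsIntegral A.left := GeometricallyIntegral.isIntegral_of_subsingleton A.hom
  have h := AVAmple.additive_of_invariant (A := A) (W := A) c (𝟙 A) fun y hy => by
    obtain ⟨b, hb⟩ := AVAmple.exists_point (A := A) hy
    exact ⟨b, hb, by rw [Category.comp_id]; exact hc b⟩
  have h' := congrArg (pull (lift f g).left) h
  rw [map_mul, pull_pc, pull_pc, pull_pc, MonObj.comp_mul, Category.comp_id, lift_fst, lift_snd] at h'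
  exact h'

theorem pc_neg_of_inv {c : PicLoc.PicSet A.left} (hc : Inv c) : pc c (𝟙 A)⁻¹ = c⁻¹ := by
  have h := pc_add_of_inv hc (𝟙 A) (𝟙 A)⁻¹
  rw [mul_inv_cancel, pc_one, pc_id] at h
  exact eq_inv_of_mul_eq_one_right h.symm

theorem pc_pow_of_inv {c : PicLoc.PicSet A.left} (hc : Inv c) (n : ℕ) : pc c (𝟙 A ^ n) = c ^ n := by
  induction n with
  | zero => rw [pow_zero, pow_zero, pc_one]
  | succ n ih => rw [pow_succ, pow_succ, pc_add_of_inv hc, ih, pc_id]

theorem isMonHom_negId [IsCommMonObj A] : IsMonHom ((𝟙 A)⁻¹ : A ⟶ A) := by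
  rw [← zpow_neg_one]
  exact AVDeg.isMonHom_zpow _ _

/-- Symmetrisation doubles the translation map. -/
theorem phiPt_symm [IsCommMonObj A] (l : PicLoc.PicSet A.left) (x : 𝟙_ (Over (Spec (CommRingCat.of k))) ⟶ A) :
    phiPt (l * pc l (𝟙 A)⁻¹) x = phiPt l x ^ 2 := by
  haveI := isMonHom_negId (A := A)
  rw [phiPt_mulClass, phiPt_pc, GrpObj.comp_inv, Category.comp_id, phiPt_invPoint,
    show pc (phiPt l x)⁻¹ (𝟙 A)⁻¹ = (pc (phiPt l x) (𝟙 A)⁻¹)⁻¹ from map_inv _ _,
    pc_neg_of_inv (inv_phiPt l x), _root_.inv_inv, sq]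

/-- Symmetrised classes are symmetric. -/
theorem pc_neg_symm (l : PicLoc.PicSet A.left) :
    pc (l * pc l (𝟙 A)⁻¹) (𝟙 A)⁻¹ = l * pc l (𝟙 A)⁻¹ := by
  rw [pc_mulClass]
  have e : pc (pc l (𝟙 A)⁻¹) (𝟙 A)⁻¹ = l := by
    show pull _ (pc l (𝟙 A)⁻¹) = l
    rw [pull_pc, GrpObj.comp_inv, Category.comp_id, _root_.inv_inv, pc_id]
  rw [e, _root_.mul_comm]

/-- A translation invariant class has top number zero against a symmetric class. -/
theorem top_inv_eq_zero {g : ℕ} (hA : topologicalKrullDim A.left = (g : WithBot ℕ∞)) {c h : PicLoc.PicSet A.left}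
    (hc : Inv c) (hh : pc h (𝟙 A)⁻¹ = h) (i : Fin g) :
    top k (Function.update (fun _ : Fin g => h) i c) = 0 := by
  haveI := isCommMonObj_of_isProper_of_geometricallyIntegral A
  haveI := AVDeg.isMonHom_id_pow (A := A) 2
  have h1 := AVDeg.top_pc hA (𝟙 A ^ 2) (Function.update (fun _ : Fin g => h) i c)
  rw [AVDeg.deg_pow_id hA] at h1
  have h4 : pc h (𝟙 A ^ 2) = h ^ 4 := by
    rw [W7Cube.pc_pow, hh, ← pow_add]
  have hupd : (fun j => pc (Function.update (fun _ : Fin g => h) i c j) (𝟙 A ^ 2)) =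
      fun j => Additive.toMul ((Function.update (fun _ : Fin g => (4 : ℤ)) i 2 j) •
        Additive.ofMul (Function.update (fun _ : Fin g => h) i c j)) := by
    funext j
    by_cases hj : j = i
    · subst hj
      simp only [Function.update_self, pc_pow_of_inv hc, toMul_zsmul, toMul_ofMul]
      rfl
    · simp only [Function.update_of_ne hj, h4, toMul_zsmul, toMul_ofMul]
      rfl
  rw [hupd, ← AVDeg.topLin_apply hA.le, MultilinearMap.map_smul_univ, AVDeg.topLin_apply hA.le] at h1
  simp only [toMul_ofMul, Finset.prod_update_of_mem (Finset.mem_univ i), Finset.prod_const, zsmul_eq_mul,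
    Finset.card_sdiff_of_subset (Finset.subset_univ _), Finset.card_univ, Fintype.card_fin, Finset.card_singleton]
    at h1
  push_cast at h1
  obtain ⟨n, rfl⟩ : ∃ n, g = n + 1 := ⟨g - 1, by have := i.2; omega⟩
  rw [Nat.add_sub_cancel, show (2 : ℚ) ^ (2 * (n + 1)) = 4 * 4 ^ n by rw [pow_mul]; norm_num [pow_succ]; ring] at h1
  have h4n : (4 : ℚ) ^ n ≠ 0 := pow_ne_zero _ (by norm_num)
  have : (2 * (4 : ℚ) ^ n) * top k (Function.update (fun _ : Fin (n + 1) => h) i c) = 0 := by linarith
  exact (mul_eq_zero.1 this).resolve_left (mul_ne_zero two_ne_zero h4n)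

end Groth.Agent.AgPos
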