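import Groth.Agent.AgPos.RosatiTrace
import Groth.Agent.AgIsog.Simple
import Groth.Agent.DualGeneric.NegDeg

/-!
Symmetry of the translation pairing, and effective classes pulled back along nonzero homomorphisms.
-/

set_option autoImplicit false
set_option backward.isDefEq.respectTransparency false
set_option backward.isDefEq.respectTransparency.types false
set_option linter.style.haveILetI false
set_option linter.unusedSectionVars false
set_option maxHeartbeats 1000000
set_option synthInstance.maxHeartbeats 200000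

universe u

open CategoryTheory CategoryTheory.Limits MonoidalCategory CartesianMonoidalCategory MonObj GrpObj AlgebraicGeometry
open TopologicalSpace

noncomputable section

namespace Groth.Agent.AgPos

open W7Cube (pull pc pull_pc pull_pull pc_id pc_one pc_const pull_cls)

attribute [local instance] W7Cube.law

variable {k : Type u} [Field k] [IsAlgClosed k] {A : Over (Spec (CommRingCat.of k))} [GrpObj A] [IsProper A.hom]
  [GeometricallyIntegral A.hom] [IsCommMonObj A]

/-- The defect of additivity of a class on two maps. -/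
def mum (c : PicLoc.PicSet A.left) {V : Over (Spec (CommRingCat.of k))} (f g : V ⟶ A) : PicLoc.PicSet V.left :=
  pc c (f * g) * (pc c f * pc c g)⁻¹

theorem mum_comm (c : PicLoc.PicSet A.left) {V : Over (Spec (CommRingCat.of k))} (f g : V ⟶ A) :
    mum c f g = mum c g f := by
  rw [mum, mum, _root_.mul_comm f g, _root_.mul_comm (pc c f)]

theorem pull_mum (c : PicLoc.PicSet A.left) {U V : Over (Spec (CommRingCat.of k))} (f g : V ⟶ A) (w : U ⟶ V) :
    pull w.left (mum c f g) = mum c (w ≫ f) (w ≫ g) := by
  rw [mum, mum, map_mul, map_inv, map_mul, pull_pc, pull_pc, pull_pc, MonObj.comp_mul]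

/-- A translation pairing that is that of a class is symmetric. -/
theorem pc_phiPt_of_eq (l M : PicLoc.PicSet A.left) (β : A ⟶ A) [IsMonHom β]
    (h : ∀ x, phiPt M x = phiPt l (x ≫ β)) (x : 𝟙_ (Over (Spec (CommRingCat.of k))) ⟶ A) :
    pc (phiPt l x) β = phiPt M x := by
  haveI : Subsingleton (Spec (CommRingCat.of k)) := inferInstanceAs (Subsingleton (PrimeSpectrum k))
  haveI : IsIntegral A.left := GeometricallyIntegral.isIntegral_of_subsingleton A.hom
  obtain ⟨N, hN, eN⟩ := PicGrp.exists_eq_cls (mum l (fst A A) (snd A A ≫ β) * (mum M (fst A A) (snd A A))⁻¹)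
  obtain ⟨_, _, _⟩ := AVAmple.fibre_facts (A := A) (W := A)
  haveI := W7See.geometricallyConnected_of_geometricallyIntegral (snd A A).left
  haveI : IsLocallyNoetherian A.left := LocallyOfFiniteType.isLocallyNoetherian A.hom
  haveI : JacobsonSpace A.left := LocallyOfFiniteType.jacobsonSpace A.hom
  have hmum : ∀ (c : PicLoc.PicSet A.left) (a : 𝟙_ (Over (Spec (CommRingCat.of k))) ⟶ A),
      mum c (𝟙 A) (toUnit A ≫ a) = phiPt c a := by
    intro c a
    rw [mum, pc_id, pc_const, _root_.mul_one, phiPt, trans]
  have hslice : ∀ b, Nonempty ((Scheme.Modules.pullback (lift (𝟙 A) (toUnit A ≫ b)).left).obj N ≅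
      Coh.structureModule A.left) := by
    intro b
    rw [← PicGrp.cls_eq_one_iff (hL := PicLoc.isInvertible_pullback _ hN), ← pull_cls _ N hN, ← eN, map_mul, map_inv,
      pull_mum, pull_mum, lift_fst, lift_snd_assoc, lift_snd, Category.assoc, hmum, hmum, h, mul_inv_cancel]
  have hsec : Nonempty ((Scheme.Modules.pullback (lift (toUnit A ≫ η[A]) (𝟙 A)).left).obj N ≅
      Coh.structureModule A.left) := by
    rw [← PicGrp.cls_eq_one_iff (hL := PicLoc.isInvertible_pullback _ hN), ← pull_cls _ N hN, ← eN, map_mul, map_inv,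
      pull_mum, pull_mum, lift_fst, lift_snd_assoc, lift_snd, ← Hom.one_def]
    simp only [mum, _root_.one_mul, pc_one, _root_.mul_inv_cancel, inv_one, _root_.mul_one]
  obtain ⟨-, hc⟩ := W7See.seesaw_closedPoints (snd A A).left (fun y _ => W7See.bijective_fiber _ y) N hN
    fun y hy => by
      obtain ⟨b, rfl⟩ := AVAmple.exists_point (A := A) hy
      exact (AVAmple.fiber_trivial_iff N b).2 (hslice b)
  obtain ⟨i⟩ := hsec
  have htriv := W7See.nonempty_iso_unit_of_counit (snd A A).left N hc (lift (toUnit A ≫ η[A]) (𝟙 A)).left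
    (by rw [← Over.comp_left, lift_snd, Over.id_left]) i
  rw [← PicGrp.cls_eq_one_iff (hL := hN), ← eN, mul_inv_eq_one] at htriv
  have h' := congrArg (pull (lift (toUnit A ≫ x) (𝟙 A)).left) htriv
  rw [pull_mum, pull_mum, lift_fst, lift_snd_assoc, lift_snd, mum_comm M, hmum, Category.id_comp] at h'
  rw [← h', mum, pc_const, _root_.one_mul, phiPt, pc_mulClass,
    show pc l⁻¹ β = (pc l β)⁻¹ from map_inv (pull β.left) l]
  congr 1
  show pull β.left (pc l (trans x)) = _
  rw [pull_pc]
  congr 1
  simp only [trans, MonObj.comp_mul, Category.comp_id]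
  rw [_root_.mul_comm, ← Category.assoc β (toUnit A), toUnit_unique (β ≫ toUnit A) (toUnit A)]

omit [IsAlgClosed k] [IsCommMonObj A] in
/-- An affine open contains no positive dimensional integral closed subscheme. -/
theorem not_range_subset_affine {K : Over (Spec (CommRingCat.of k))} [IsProper K.hom] [GeometricallyIntegral K.hom]
    (hK : ¬ Subsingleton K.left) (i : K ⟶ A) [IsClosedImmersion i.left] {U : A.left.Opens} (hU : IsAffineOpen U) :
    ¬ Set.range i.left ⊆ U := by
  intro hsub
  haveI : Subsingleton (Spec (CommRingCat.of k)) := inferInstanceAs (Subsingleton (PrimeSpectrum k))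
  haveI : IsIntegral K.left := GeometricallyIntegral.isIntegral_of_subsingleton K.hom
  have htop : i.left ⁻¹ᵁ U = ⊤ := top_le_iff.1 fun x _ => hsub ⟨x, rfl⟩
  have haff : IsAffineOpen (⊤ : K.left.Opens) := htop ▸ hU.preimage i.left
  haveI : IsAffine (⊤ : K.left.Opens) := haff
  haveI : IsAffine K.left := .of_isIso K.left.topIso.inv
  haveI : IsAffineHom K.hom := inferInstance
  haveI : IsFinite K.hom := IsFinite.iff_isProper_and_isAffineHom.2 ⟨‹_›, ‹_›⟩
  haveI : Finite K.left := Set.finite_univ_iff.1 ((K.hom.finite_preimage_singleton (IsLocalRing.closedPoint k)).subset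
    fun x _ => Subsingleton.elim (α := ↥(Spec (CommRingCat.of k))) _ _)
  haveI : JacobsonSpace K.left := LocallyOfFiniteType.jacobsonSpace K.hom
  haveI : DiscreteTopology K.left := inferInstance
  exact hK ⟨fun a b => by
    have ha : a = genericPoint K.left := ((genericPoint_spec K.left).mem_open_set_iff (isOpen_discrete {a})).2
      (by simp) |>.symm
    have hb : b = genericPoint K.left := ((genericPoint_spec K.left).mem_open_set_iff (isOpen_discrete {b})).2
      (by simp) |>.symm
    rw [ha, hb]⟩

/-- An effective nontrivial class in the pullback of a multiple of an ample class. -/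
theorem exists_effective_pullback {L : A.left.Modules} (hL : CohB1.IsAmple L) (f : A ⟶ A) [IsMonHom f] (hf : f ≠ 1)
    {n : ℕ} (hn : 1 ≤ n) :
    ∃ (a : ℕ) (M : A.left.Modules) (hM : PicF.IsInvertible M) (s : Coh.structureModule A.left ⟶ M),
      1 ≤ a ∧ s ≠ 0 ∧ ¬ IsIso s ∧ PicGrp.cls M hM = pc ((PicGrp.cls L hL.1 ^ n) ^ a) f := by
  haveI : Subsingleton (Spec (CommRingCat.of k)) := inferInstanceAs (Subsingleton (PrimeSpectrum k))
  haveI : IsIntegral A.left := GeometricallyIntegral.isIntegral_of_subsingleton A.hom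
  obtain ⟨K, hK, i, g, hi, hgm, hgi, hcl, hint, hsurj, hns⟩ := AgIsog.exists_image_nontrivial f hf
  haveI := hcl
  haveI := hint
  haveI := hsurj
  haveI : IsProper (i.left ≫ A.hom) := inferInstance
  haveI : IsProper K.hom := by rw [← Over.w i]; infer_instance
  haveI : Nonempty K.left := ⟨η[K].left (IsLocalRing.closedPoint k)⟩
  obtain ⟨a, t, ht, haff⟩ := hL.2.2 (i.left (Classical.arbitrary K.left))
  obtain ⟨n, rfl⟩ := Nat.exists_eq_succ_of_ne_zero (show n ≠ 0 by omega)
  have hP := TMul.isInvertible_tensorPow hL.1 (a + 1)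
  have hQ := TMul.isInvertible_tensorPow hP (n + 1)
  let τ := SecTwist.powHom t (n + 1)
  have hτ : CohB1.genLocus _ τ = CohB1.genLocus _ t := TMul.genLocus_powHom hP t n
  let e := (PicLoc.pullbackStructureIso f.left).symm
  let s := e.hom ≫ (Scheme.Modules.pullback f.left).map τ
  have hs : CohB1.genLocus _ s = f.left ⁻¹ᵁ CohB1.genLocus _ t := by
    rw [TMul.genLocus_pullback f.left hQ τ e, hτ]
  have hM := PicLoc.isInvertible_pullback f.left hQ
  refine ⟨a + 1, _, hM, s, Nat.succ_pos a, fun h0 => ?_, fun hiso => ?_, ?_⟩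
  · obtain ⟨x, hx⟩ := g.left.surjective (Classical.arbitrary K.left)
    have hxm : x ∈ CohB1.genLocus _ s := by
      rw [hs]
      show f.left x ∈ CohB1.genLocus _ t
      rw [← hgi, Over.comp_left, Scheme.Hom.comp_apply, hx]
      exact ht
    rw [h0] at hxm
    exact DualGeneric.notMem_genLocus_zero _ x hxm
  · haveI := hiso
    refine not_range_subset_affine hns i haff ?_
    rintro _ ⟨y, rfl⟩
    obtain ⟨x, rfl⟩ := g.left.surjective y
    have hxm : x ∈ CohB1.genLocus _ s := Opens.mem_sSup.mpr ⟨⊤, by
      change IsIso _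
      infer_instance, trivial⟩
    rw [hs] at hxm
    change f.left x ∈ CohB1.genLocus _ t at hxm
    rwa [← hgi, Over.comp_left, Scheme.Hom.comp_apply] at hxm
  · rw [pc, ← pull_cls _ _ hQ]
    congr 1
    rw [← AgSymm.cls_tensorPow hP, ← AgSymm.cls_tensorPow hL.1, ← pow_mul, ← pow_mul, Nat.mul_comm]

end Groth.Agent.AgPos
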