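import Groth.Agent.AgPos.InvClass
import Groth.Agent.MaxAb.Main
import Groth.Agent.AgSymm.PoincarePow
import Groth.Agent.S14809
import Groth.Prelude.Def_EndRing

/-!
Positivity of the trace of a positive symmetric endomorphism.
-/

set_option autoImplicit false
set_option backward.isDefEq.respectTransparency false
set_option linter.style.haveILetI false
set_option linter.unusedSectionVars false
set_option maxHeartbeats 2000000
set_option synthInstance.maxHeartbeats 400000

universe u

open CategoryTheory CategoryTheory.Limits MonoidalCategory CartesianMonoidalCategory MonObj GrpObj AlgebraicGeometry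
open TopologicalSpace Polynomial

noncomputable section

namespace Groth.Agent.AgPos

open W7Cube (pull pc pull_pc pull_pull pc_id pc_one)
open AVDeg (top topLin rep)

attribute [local instance] W7Cube.law
attribute [local instance] AVDeg.overInst

section Poly

variable {M : Type*} [AddCommGroup M]

/-- The coefficient below the top of a multilinear form along a parabola. -/
theorem coeff_parabola {r : ℕ} (hr : 0 < r) (T : MultilinearMap ℤ (fun _ : Fin r => M) ℚ) (x y z : M) (Q : ℚ[X])
    (hQ : ∀ n : ℕ, Q.eval (n : ℚ) = T fun _ => x + n • y + (n * n) • z) :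
    Q.coeff (2 * r - 1) = ∑ i, T (Function.update (fun _ => z) i y) := by
  classical
  let v : Fin 3 → M := ![x, y, z]
  have hQ' : Q = ∑ f : Fin r → Fin 3, C (T fun i => v (f i)) * X ^ (∑ i, (f i : ℕ)) := by
    refine Polynomial.eq_of_infinite_eval_eq _ _ (Set.infinite_of_injective_forall_mem
      (f := fun n : ℕ => (n : ℚ)) Nat.cast_injective fun n => ?_)
    show Q.eval (n : ℚ) = _
    rw [hQ, Polynomial.eval_finsetSum]
    have hv : x + n • y + (n * n) • z = ∑ j : Fin 3, ((n : ℤ) ^ (j : ℕ)) • v j := by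
      simp [Fin.sum_univ_three, v, sq, ← natCast_zsmul]
    rw [hv, T.map_sum]
    refine Finset.sum_congr rfl fun f _ => ?_
    rw [MultilinearMap.map_smul_univ, Finset.prod_pow_eq_pow_sum, zsmul_eq_mul, eval_mul, eval_C, eval_pow, eval_X]
    push_cast
    ring
  rw [hQ', finsetSum_coeff]
  simp only [coeff_C_mul_X_pow]
  rw [← Finset.sum_filter]
  symm
  refine Finset.sum_bij (fun i _ => Function.update (fun _ => (2 : Fin 3)) i 1) (fun i _ => ?_)
    (fun i _ j _ h => ?_) (fun f hf => ?_) (fun i _ => congrArg T (funext fun j => ?_))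
  · simp only [Finset.mem_filter, Finset.mem_univ, true_and]
    rw [← Finset.add_sum_erase _ _ (Finset.mem_univ i), Function.update_self,
      Finset.sum_congr rfl (fun j hj => by rw [Function.update_of_ne (Finset.ne_of_mem_erase hj)]),
      Finset.sum_const, Finset.card_erase_of_mem (Finset.mem_univ i), Finset.card_univ, Fintype.card_fin]
    simp
    omega
  · by_contra hne
    have := congrFun h i
    simp [Function.update_of_ne hne] at this
  · simp only [Finset.mem_filter, Finset.mem_univ, true_and] at hf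
    obtain ⟨i, hi⟩ : ∃ i, f i ≠ 2 := by
      by_contra hall
      simp only [not_exists, not_not] at hall
      simp [hall] at hf
      omega
    refine ⟨i, Finset.mem_univ _, funext fun j => ?_⟩
    rw [← Finset.add_sum_erase _ _ (Finset.mem_univ i)] at hf
    have hle : ∑ j ∈ Finset.univ.erase i, (f j : ℕ) ≤ ∑ j ∈ Finset.univ.erase i, 2 :=
      Finset.sum_le_sum fun j _ => by omega
    have hsum : ∑ j ∈ Finset.univ.erase i, 2 = (r - 1) * 2 := by simp
    have hi' : (f i : ℕ) ≤ 1 := by
      have := (f i).2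
      have h2 : (f i : ℕ) ≠ 2 := fun h => hi (Fin.ext h)
      omega
    by_cases hj : j = i
    · subst hj
      rw [Function.update_self]
      exact Fin.ext (by simp; omega)
    · rw [Function.update_of_ne hj]
      refine Fin.ext (le_antisymm ?_ (by have := (f j).2; simp; omega))
      by_contra hlt
      have hlt' : ∑ j ∈ Finset.univ.erase i, (f j : ℕ) < ∑ j ∈ Finset.univ.erase i, 2 :=
        Finset.sum_lt_sum (fun j _ => by omega) ⟨j, Finset.mem_erase.2 ⟨hj, Finset.mem_univ _⟩, by simp at hlt; omega⟩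
      omega
  · by_cases hj : j = i
    · subst hj; simp [v]
    · simp [v, Function.update_of_ne hj]

end Poly

variable {k : Type u} [Field k] [IsAlgClosed k] {A : Over (Spec (CommRingCat.of k))} [GrpObj A] [IsProper A.hom]
  [GeometricallyIntegral A.hom] [IsCommMonObj A]

theorem cls_tensorMod {L M : A.left.Modules} (hL : PicF.IsInvertible L) (hM : PicF.IsInvertible M) :
    PicGrp.cls L hL * PicGrp.cls M hM = PicGrp.cls (CohB1.tensorMod L M) (TMul.isInvertible_tensorMod hL hM) :=
  Subtype.ext (PicGrp.cls_mul_cls_val hL hM)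

theorem cls_congr {L M : A.left.Modules} (h : Nonempty (L ≅ M)) (hL : PicF.IsInvertible L) (hM : PicF.IsInvertible M) :
    PicGrp.cls L hL = PicGrp.cls M hM := (PicGrp.cls_eq_cls_iff hL hM).2 h

/-- Positivity of the top number of an effective class against an ample class, in any position. -/
theorem top_update_pos {r : ℕ} (hA : topologicalKrullDim A.left = ((r + 1 : ℕ) : WithBot ℕ∞))
    {H : A.left.Modules} (hH : CohB1.IsAmple H) {M : A.left.Modules} (hM : PicF.IsInvertible M)
    (s : Coh.structureModule A.left ⟶ M) (hs : s ≠ 0) (hs' : ¬ IsIso s) (i : Fin (r + 1)) :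
    0 < top k (Function.update (fun _ : Fin (r + 1) => PicGrp.cls H hH.1) i (PicGrp.cls M hM)) := by
  classical
  haveI := AVDeg.isIntegral_av A
  obtain ⟨e⟩ := AVDeg.nonempty_rep_iso hM
  obtain ⟨eH⟩ := AVDeg.nonempty_rep_iso hH.1
  have hperm : (List.ofFn fun j => rep (Function.update (fun _ : Fin (r + 1) => PicGrp.cls H hH.1) i
      (PicGrp.cls M hM) j)).Perm (rep (PicGrp.cls M hM) :: List.ofFn fun _ : Fin r => rep (PicGrp.cls H hH.1)) := by
    let σ : Equiv.Perm (Fin (r + 1)) := (finSuccEquiv r).trans (finSuccEquiv' i).symm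
    refine (Equiv.Perm.ofFn_comp_perm σ _).symm.trans ?_
    rw [List.ofFn_succ]
    refine List.Perm.of_eq (congrArg₂ List.cons ?_ (congrArg List.ofFn (funext fun j => ?_)))
    · simp [σ]
    · simp [σ, Function.update_of_ne (Fin.succAbove_ne i j)]
  rw [AVDeg.top_eq_D, Nakai.D_perm k hperm,
    show (rep (PicGrp.cls M hM) :: List.ofFn fun _ : Fin r => rep (PicGrp.cls H hH.1)) = List.ofFn
      (Fin.cons (rep (PicGrp.cls M hM)) (fun _ : Fin r => rep (PicGrp.cls H hH.1)) : Fin (r + 1) → A.left.Modules) by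
        rw [List.ofFn_succ]; simp, Nakai.D_ofFn]
  rw [Intersect.χt_congr k (Coh.structureModule A.left)
    (L' := (Fin.cons M (fun _ : Fin r => H) : Fin (r + 1) → A.left.Modules))
    (fun j => by induction j using Fin.cases with
      | zero => exact ⟨e⟩
      | succ j => exact ⟨eH⟩)]
  obtain ⟨x, hx⟩ := S14809.genLocus_nonempty hM s hs
  let u : M ≅ CohB1.tensorPow M (0 + 1) := (TMul.leftUnitIso M).symm
  refine AVDeg.alt_pos_section k hA hM (n := 0) (s ≫ u.hom) ?_ ?_ _ (fun _ => hH)
  · rw [TMul.genLocus_comp]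
    exact ⟨x, hx⟩
  · rw [TMul.genLocus_comp]
    refine Set.nonempty_compl.2 fun h => hs' (S14809.isIso_of_genLocus_top s (TopologicalSpace.Opens.ext h))

/-- A positive symmetric endomorphism has positive trace. -/
theorem coeff_pos_of_rosatiPositive {r : ℕ} (hr : topologicalKrullDim A.left = (r : WithBot ℕ∞))
    {L : A.left.Modules} (hL : CohB1.IsAmple L) (α : EndAV.End A)
    (hsym : ∀ x : (𝟙_ (Over (Spec (CommRingCat.of k))) ⟶ A),
      phiPt (PicGrp.cls L hL.1) (x ≫ α.toHom) = pc (phiPt (PicGrp.cls L hL.1) x) α.toHom)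
    {m : ℕ} (hm : 1 ≤ m) {M : A.left.Modules} (hM : PicF.IsInvertible M) (s : Coh.structureModule A.left ⟶ M)
    (hs : s ≠ 0) (hs' : ¬ IsIso s)
    (hpos : ∀ x : (𝟙_ (Over (Spec (CommRingCat.of k))) ⟶ A),
      phiPt (PicGrp.cls M hM) x = phiPt (PicGrp.cls L hL.1) (x ≫ α.toHom) ^ m)
    {P : ℚ[X]} (hmon : P.Monic) (hdeg : P.natDegree = 2 * r)
    (hv : ∀ n : ℕ, (AVDeg.deg (α.toHom * 𝟙 A ^ n) : ℚ) = P.eval (n : ℚ)) :
    0 < P.coeff (2 * r - 1) := by
  classical
  rcases Nat.eq_zero_or_pos r with h0 | h0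
  · subst h0
    have := hmon.coeff_natDegree
    rw [hdeg] at this
    simp only [mul_zero, Nat.zero_sub] at this ⊢
    rw [this]; norm_num
  haveI := isMonHom_negId (A := A)
  set l := PicGrp.cls L hL.1 with hl
  have hLn : PicF.IsInvertible ((Scheme.Modules.pullback ((𝟙 A)⁻¹ : A ⟶ A).left).obj L) :=
    PicLoc.isInvertible_pullback _ hL.1
  haveI : IsIso ((𝟙 A)⁻¹ : A ⟶ A) := ⟨(𝟙 A)⁻¹, by
    rw [GrpObj.comp_inv, Category.comp_id, _root_.inv_inv], by rw [GrpObj.comp_inv, Category.comp_id, _root_.inv_inv]⟩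
  haveI : IsIso ((𝟙 A)⁻¹ : A ⟶ A).left := (Over.forget _).map_isIso ((𝟙 A)⁻¹)
  have hH : CohB1.IsAmple (CohB1.tensorMod L ((Scheme.Modules.pullback ((𝟙 A)⁻¹ : A ⟶ A).left).obj L)) :=
    TMul.isAmple_tensorMod hL hLn fun x => by
      obtain ⟨n, t, ht, -⟩ := (TMul.isAmple_pullback_of_isAffineHom ((𝟙 A)⁻¹ : A ⟶ A).left hL).2.2 x
      exact ⟨n, t, ht⟩
  set h := l * pc l (𝟙 A)⁻¹ with hh
  have hhc : PicGrp.cls _ hH.1 = h := by
    rw [hh, pc, W7Cube.pull_cls, cls_tensorMod]
  have hsymh : pc h (𝟙 A)⁻¹ = h := pc_neg_symm l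
  set D := pc h (α.toHom * 𝟙 A) * (pc h α.toHom * h)⁻¹ with hD
  -- the polar class is proportional to `M` up to invariant classes
  have hphih : ∀ x, phiPt h x = phiPt l x ^ 2 := fun x => phiPt_symm l x
  have hphiD : ∀ x, phiPt D x = phiPt l (x ≫ α.toHom) ^ 4 := by
    intro x
    haveI : IsMonHom (α.toHom * 𝟙 A) := MaxAb.isMonHom_mul _ _
    rw [hD, phiPt_mulClass, show phiPt (pc h α.toHom * h)⁻¹ x = (phiPt (pc h α.toHom * h) x)⁻¹ from
      map_inv (phiHom x) _, phiPt_mulClass, phiPt_pc, phiPt_pc, MonObj.comp_mul, Category.comp_id,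
      pc_add_of_inv (inv_phiPt h _), phiPt_mulPoint, pc_mulClass, pc_id, hphih, hphih]
    rw [show pc (phiPt l x ^ 2) α.toHom = phiPt l (x ≫ α.toHom) ^ 2 by
      rw [hsym x]; exact map_pow _ _ _]
    generalize pc (phiPt l (x ≫ α.toHom) ^ 2) α.toHom = a
    generalize phiPt l (x ≫ α.toHom) = b
    generalize phiPt l x = c
    apply Additive.ofMul.injective
    simp only [ofMul_mul, ofMul_inv, ofMul_pow]
    abel
  have hinv : Inv (D ^ m * (PicGrp.cls M hM ^ 4)⁻¹) := (inv_iff _).2 fun x => by
    show phiHom x _ = 1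
    rw [map_mul, map_inv, map_pow, map_pow]
    show phiPt D x ^ m * (phiPt (PicGrp.cls M hM) x ^ 4)⁻¹ = 1
    rw [hphiD, hpos, ← pow_mul, ← pow_mul, _root_.mul_comm 4 m, mul_inv_cancel]
  -- the degree polynomial along the parabola
  let T := topLin k (X := A.left) hr.le
  let q : Additive (A ⟶ A) → Additive (PicLoc.PicSet A.left) := fun ψ =>
    Additive.ofMul (pc h (Additive.toMul ψ))
  have hq0 : q 0 = 0 := congrArg Additive.ofMul (pc_one h)
  have hqc : ∀ x y z, q (x + y + z) + q x + q y + q z = q (x + y) + q (x + z) + q (y + z) := fun x y z =>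
    congrArg Additive.ofMul (W7Cube.cube_rel h (Additive.toMul x) (Additive.toMul y) (Additive.toMul z))
  have hqe : ∀ x, q (-x) = q x := fun x => by
    refine congrArg Additive.ofMul ?_
    show pc h (Additive.toMul x)⁻¹ = pc h (Additive.toMul x)
    conv_rhs => rw [← hsymh]
    show _ = pull (Additive.toMul x).left (pc h (𝟙 A)⁻¹)
    rw [pull_pc, GrpObj.comp_inv, Category.comp_id]
  let a := Additive.ofMul α.toHom
  let e := Additive.ofMul (𝟙 A)
  have hqe1 : q e = Additive.ofMul h := congrArg Additive.ofMul (pc_id h)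
  have hpol : AVDeg.polarQ q a e = Additive.ofMul D := by
    show Additive.ofMul (pc h (α.toHom * 𝟙 A)) - Additive.ofMul (pc h α.toHom) - Additive.ofMul (pc h (𝟙 A)) = _
    rw [pc_id, hD, ofMul_mul (pc h (α.toHom * 𝟙 A)), ofMul_inv, ofMul_mul (pc h α.toHom) h]
    abel
  have hpol' : AVDeg.polarQ q e a = Additive.ofMul D := by
    rw [← hpol]
    simp only [AVDeg.polarQ, add_comm e a]
    abel
  have hline : ∀ n : ℕ, q (a + n • e) + q (a + n • e) =
      (q a + q a) + n • (Additive.ofMul D + Additive.ofMul D) + (n * n) • (Additive.ofMul h + Additive.ofMul h) := by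
    intro n
    have h2 := AVDeg.two_q_sum q hq0 hqc hqe (![1, (n : ℤ)]) (![a, e])
    simp only [Fin.sum_univ_two, Matrix.cons_val_zero, Matrix.cons_val_one, one_zsmul, natCast_zsmul,
      _root_.one_mul, _root_.mul_one, AVDeg.polarQ_self q hq0 hqc hqe, hpol, hpol', hqe1] at h2
    rw [h2, show (n : ℤ) * (n : ℤ) = ((n * n : ℕ) : ℤ) by push_cast; ring, natCast_zsmul, nsmul_add, nsmul_add]
    abel
  have hval : ∀ n : ℕ, (C ((2 : ℚ) ^ r * top k (fun _ : Fin r => h)) * P).eval (n : ℚ) =
      T fun _ => (q a + q a) + n • (Additive.ofMul D + Additive.ofMul D) +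
        (n * n) • (Additive.ofMul h + Additive.ofMul h) := by
    intro n
    rw [← hline n]
    have h2 := T.map_smul_univ (fun _ => (2 : ℤ)) (fun _ => q (a + n • e))
    simp only [two_zsmul, Finset.prod_const, Finset.card_univ, Fintype.card_fin, zsmul_eq_mul] at h2
    rw [h2, eval_mul, eval_C, ← hv]
    haveI : IsMonHom (𝟙 A ^ n : A ⟶ A) := AVDeg.isMonHom_id_pow n
    haveI : IsMonHom (α.toHom * 𝟙 A ^ n) := MaxAb.isMonHom_mul _ _
    rw [show T (fun _ => q (a + n • e)) = (AVDeg.deg (α.toHom * 𝟙 A ^ n) : ℚ) * top k (fun _ : Fin r => h) from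
      (AVDeg.topLin_apply hr.le _).trans (AVDeg.top_pc hr (α.toHom * 𝟙 A ^ n) (fun _ => h))]
    push_cast
    ring
  have hco := coeff_parabola h0 T _ _ _ _ hval
  rw [coeff_C_mul] at hco
  obtain ⟨r, rfl⟩ : ∃ r', r = r' + 1 := ⟨r - 1, by omega⟩
  have hi : ∀ i : Fin (r + 1), 0 < T (Function.update
      (fun _ : Fin (r + 1) => Additive.ofMul h + Additive.ofMul h) i (Additive.ofMul D + Additive.ofMul D)) := by
    intro i
    have h2 := T.map_smul_univ (fun _ => (2 : ℤ))
      (Function.update (fun _ : Fin (r + 1) => Additive.ofMul h) i (Additive.ofMul D))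
    simp only [Finset.prod_const, Finset.card_univ, Fintype.card_fin, zsmul_eq_mul] at h2
    rw [show Function.update (fun _ : Fin (r + 1) => Additive.ofMul h + Additive.ofMul h) i
        (Additive.ofMul D + Additive.ofMul D) =
        fun j => (2 : ℤ) • Function.update (fun _ : Fin (r + 1) => Additive.ofMul h) i (Additive.ofMul D) j by
      funext j
      by_cases hj : j = i
      · subst hj; simp [two_zsmul]
      · simp [Function.update_of_ne hj, two_zsmul], h2]
    refine mul_pos (by positivity) ?_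
    let U := AVDeg.updateHom (k := k) (X := A.left) hr.le (fun _ : Fin (r + 1) => h) i
    have hU : ∀ c, top k (Function.update (fun _ : Fin (r + 1) => h) i c) = U (Additive.ofMul c) := fun c => rfl
    rw [AVDeg.topLin_apply, show (fun j => Additive.toMul (Function.update (fun _ : Fin (r + 1) => Additive.ofMul h)
      i (Additive.ofMul D) j)) = Function.update (fun _ : Fin (r + 1) => h) i D from AVDeg.update_toMul _ _ _, hU]
    have hz := top_inv_eq_zero hr hinv hsymh i
    rw [hU, ofMul_mul, ofMul_inv, ofMul_pow, ofMul_pow, map_add, map_neg, map_nsmul, map_nsmul, nsmul_eq_mul,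
      nsmul_eq_mul, add_neg_eq_zero] at hz
    have hMpos : 0 < U (Additive.ofMul (PicGrp.cls M hM)) := by
      rw [← hU, ← hhc]
      exact top_update_pos hr hH hM s hs hs' i
    have hm' : (0 : ℚ) < (m : ℚ) := by exact_mod_cast hm
    have : 0 < (m : ℚ) * U (Additive.ofMul D) := by rw [hz]; exact mul_pos (by norm_num) hMpos
    exact (pos_iff_pos_of_mul_pos this).1 hm'
  have hsum : 0 < ∑ i, T (Function.update
      (fun _ : Fin (r + 1) => Additive.ofMul h + Additive.ofMul h) i (Additive.ofMul D + Additive.ofMul D)) :=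
    Finset.sum_pos (fun i _ => hi i) Finset.univ_nonempty
  rw [← hco] at hsum
  refine (pos_iff_pos_of_mul_pos hsum).1 (mul_pos (by positivity) ?_)
  rw [← hhc]
  exact AVDeg.top_pos hr hH

end Groth.Agent.AgPos
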